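import Cfsg.Agent.H439.CC.Defs

/-!
# S4884, block G: `q`-elements and primary flags (helper365)

`x` an automorphism of `V` with `x ^ N = 1`, `N ≠ 0` in `F`; `Cx x` the fixed vectors, `Wx x = [V, x]`.

* `finrank_split`  : `dim B = dim (B ∩ W) + dim (B ∩ C)` for stable `B`;
* `prim_cases`     : `Prim x A B` gives `B ∩ W ≤ A` or `B ∩ C ≤ A`;
* `dvd_finrank`    : `N = q ^ a`: the order `d` of `|F|` mod `q` divides `dim U` for `U` stable, `U ∩ C = 0`;
* `pf_rank`        : a `PF`-flag above `A` with the list `ds` has a top `B`, `dim B = dim A + ∑ ds`, and for all `x ∈ X`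
  (`x ^ q ^ a = 1`): `dim (B ∩ W) = dim (A ∩ W) + ` the sum of a sublist of `ds` all of whose members are divisible by `d`;
* `sub_dig_odd`, `dig_even`, `dig_odd`, `dig_sum`: the binary digits.
-/

set_option autoImplicit false
set_option linter.unusedSectionVars false

namespace Cfsg.Agent.H365.CC

open Cfsg.Agent.H439.CC

variable {F : Type*} [Field F] {V : Type*} [AddCommGroup V] [Module F V]

/-- the fixed vectors -/
def Cx (x : V ≃ₗ[F] V) : Submodule F V where
  carrier := {v | x v = v}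
  add_mem' ha hb := by
    simp only [Set.mem_setOf_eq] at *
    rw [map_add, ha, hb]
  zero_mem' := map_zero x
  smul_mem' c v hv := by
    simp only [Set.mem_setOf_eq] at *
    rw [map_smul, hv]

theorem mem_Cx {x : V ≃ₗ[F] V} {v : V} : v ∈ Cx x ↔ x v = v := Iff.rfl

/-- `[V, x]` -/
def Wx (x : V ≃ₗ[F] V) : Submodule F V := LinearMap.range ((x : V →ₗ[F] V) - LinearMap.id)

theorem sub_mem_Wx (x : V ≃ₗ[F] V) (v : V) : x v - v ∈ Wx x := ⟨v, rfl⟩

/-- stable subspaces -/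
theorem map_eq_of_le [FiniteDimensional F V] {x : V ≃ₗ[F] V} {B : Submodule F V} (h : ∀ v ∈ B, x v ∈ B) :
    B.map (x : V →ₗ[F] V) = B := by
  apply Submodule.eq_of_le_of_finrank_eq
  · rintro _ ⟨v, hv, rfl⟩
    exact h v hv
  · exact LinearEquiv.finrank_map_eq x B

theorem mem_of_map {x : V ≃ₗ[F] V} {B : Submodule F V} (h : B.map (x : V →ₗ[F] V) = B) {v : V} (hv : v ∈ B) :
    x v ∈ B := by
  rw [← h]
  exact ⟨v, hv, rfl⟩

theorem pow_mem_of_map {x : V ≃ₗ[F] V} {B : Submodule F V} (h : B.map (x : V →ₗ[F] V) = B) {v : V} (hv : v ∈ B)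
    (j : ℕ) : (x ^ j) v ∈ B := by
  induction j with
  | zero => exact hv
  | succ j ih =>
    rw [pow_succ']
    exact mem_of_map h ih

/-- the trace `∑ x ^ j` -/
noncomputable def Tx (x : V ≃ₗ[F] V) (N : ℕ) (v : V) : V := ∑ j ∈ Finset.range N, (x ^ j) v

theorem Tx_mem {x : V ≃ₗ[F] V} {N : ℕ} {B : Submodule F V} (h : B.map (x : V →ₗ[F] V) = B) {v : V} (hv : v ∈ B) :
    Tx x N v ∈ B := Submodule.sum_mem _ fun j _ => pow_mem_of_map h hv j

theorem x_Tx {x : V ≃ₗ[F] V} {N : ℕ} (hx : x ^ N = 1) (v : V) : x (Tx x N v) = Tx x N v := by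
  have h1 : x (Tx x N v) = ∑ j ∈ Finset.range N, (x ^ (j + 1)) v := by
    rw [Tx, map_sum]
    refine Finset.sum_congr rfl fun j _ => ?_
    rw [pow_succ']
    rfl
  rw [h1, Tx]
  have h2 := Finset.sum_range_succ (fun j => (x ^ j) v) N
  rw [Finset.sum_range_succ'] at h2
  rw [hx] at h2
  simpa using h2

theorem Tx_of_mem_Cx {x : V ≃ₗ[F] V} {N : ℕ} {v : V} (hv : v ∈ Cx x) : Tx x N v = (N : F) • v := by
  have h1 : ∀ j : ℕ, (x ^ j) v = v := by
    intro j
    induction j with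
    | zero => rfl
    | succ j ih =>
      rw [pow_succ']
      show x ((x ^ j) v) = v
      rw [ih, mem_Cx.1 hv]
  rw [Tx, Finset.sum_congr rfl fun j _ => h1 j, Finset.sum_const, Finset.card_range, Nat.cast_smul_eq_nsmul]

theorem pow_sub_mem {x : V ≃ₗ[F] V} {B A : Submodule F V} (hB : B.map (x : V →ₗ[F] V) = B)
    (h : ∀ v ∈ B, x v - v ∈ A) {v : V} (hv : v ∈ B) (j : ℕ) : (x ^ j) v - v ∈ A := by
  induction j with
  | zero =>
    show v - v ∈ A
    rw [sub_self]
    exact A.zero_mem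
  | succ j ih =>
    have h1 : (x ^ (j + 1)) v - v = (x ((x ^ j) v) - (x ^ j) v) + ((x ^ j) v - v) := by
      rw [pow_succ', sub_add_sub_cancel]
      rfl
    rw [h1]
    exact A.add_mem (h _ (pow_mem_of_map hB hv j)) ih

theorem Tx_sub_mem {x : V ≃ₗ[F] V} {N : ℕ} {B A : Submodule F V} (hB : B.map (x : V →ₗ[F] V) = B)
    (h : ∀ v ∈ B, x v - v ∈ A) {v : V} (hv : v ∈ B) : Tx x N v - (N : F) • v ∈ A := by
  have h1 : Tx x N v - (N : F) • v = ∑ j ∈ Finset.range N, ((x ^ j) v - v) := by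
    rw [Finset.sum_sub_distrib, Finset.sum_const, Finset.card_range, Nat.cast_smul_eq_nsmul]
    rfl
  rw [h1]
  exact Submodule.sum_mem _ fun j _ => pow_sub_mem hB h hv j

theorem Tx_add (x : V ≃ₗ[F] V) (N : ℕ) (v w : V) : Tx x N (v + w) = Tx x N v + Tx x N w := by
  rw [Tx, Tx, Tx, ← Finset.sum_add_distrib]
  exact Finset.sum_congr rfl fun j _ => map_add _ _ _

theorem Tx_smul (x : V ≃ₗ[F] V) (N : ℕ) (c : F) (v : V) : Tx x N (c • v) = c • Tx x N v := by
  rw [Tx, Tx, Finset.smul_sum]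
  exact Finset.sum_congr rfl fun j _ => map_smul _ _ _

theorem Tx_of_mem_Wx {x : V ≃ₗ[F] V} {N : ℕ} (hx : x ^ N = 1) {v : V} (hv : v ∈ Wx x) : Tx x N v = 0 := by
  obtain ⟨w, rfl⟩ := hv
  show Tx x N (x w - w) = 0
  have h1 : Tx x N (x w) = x (Tx x N w) := by
    rw [Tx, Tx, map_sum]
    refine Finset.sum_congr rfl fun j _ => ?_
    show (x ^ j * x) w = (x * x ^ j) w
    rw [← pow_succ, ← pow_succ']
  have h2 : Tx x N (x w - w) = Tx x N (x w) - Tx x N w := by
    rw [Tx, Tx, Tx, ← Finset.sum_sub_distrib]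
    exact Finset.sum_congr rfl fun j _ => map_sub _ _ _
  rw [h2, h1, x_Tx hx, sub_self]

theorem mem_Wx_of_Tx {x : V ≃ₗ[F] V} {N : ℕ} (hN : (N : F) ≠ 0) {v : V} (hv : Tx x N v = 0) : v ∈ Wx x := by
  have h1 := Tx_sub_mem (x := x) (N := N) (B := ⊤) (A := Wx x)
    (by rw [Submodule.map_top]; exact LinearEquiv.range x) (fun v _ => sub_mem_Wx x v) (v := v) trivial
  rw [hv, zero_sub] at h1
  have h2 := (Wx x).smul_mem (-(N : F)⁻¹) h1
  rwa [neg_smul, smul_neg, neg_neg, smul_smul, inv_mul_cancel₀ hN, one_smul] at h2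

theorem Wx_inf_Cx {x : V ≃ₗ[F] V} {N : ℕ} (hx : x ^ N = 1) (hN : (N : F) ≠ 0) {v : V} (h1 : v ∈ Wx x)
    (h2 : v ∈ Cx x) : v = 0 := by
  have h3 := Tx_of_mem_Wx hx h1
  rw [Tx_of_mem_Cx h2] at h3
  exact (smul_eq_zero.1 h3).resolve_left hN

/-- the decomposition of a vector -/
theorem exists_split {x : V ≃ₗ[F] V} {N : ℕ} (hx : x ^ N = 1) (hN : (N : F) ≠ 0) {B : Submodule F V}
    (hB : B.map (x : V →ₗ[F] V) = B) {v : V} (hv : v ∈ B) :
    ∃ w ∈ B ⊓ Wx x, ∃ c ∈ B ⊓ Cx x, w + c = v := by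
  have hc : (N : F)⁻¹ • Tx x N v ∈ Cx x := by
    rw [mem_Cx, map_smul, x_Tx hx]
  have hcB : (N : F)⁻¹ • Tx x N v ∈ B := B.smul_mem _ (Tx_mem hB hv)
  refine ⟨v - (N : F)⁻¹ • Tx x N v, ⟨B.sub_mem hv hcB, ?_⟩, _, ⟨hcB, hc⟩, sub_add_cancel _ _⟩
  apply mem_Wx_of_Tx hN
  have h1 : Tx x N (v - (N : F)⁻¹ • Tx x N v) = Tx x N v - Tx x N ((N : F)⁻¹ • Tx x N v) := by
    rw [sub_eq_add_neg, Tx_add, ← neg_one_smul F ((N : F)⁻¹ • Tx x N v), Tx_smul, neg_one_smul, ← sub_eq_add_neg]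
  rw [h1, Tx_of_mem_Cx hc, smul_smul, mul_inv_cancel₀ hN, one_smul, sub_self]

theorem finrank_split [FiniteDimensional F V] {x : V ≃ₗ[F] V} {N : ℕ} (hx : x ^ N = 1) (hN : (N : F) ≠ 0)
    {B : Submodule F V} (hB : B.map (x : V →ₗ[F] V) = B) :
    Module.finrank F B = Module.finrank F (B ⊓ Wx x : Submodule F V) + Module.finrank F (B ⊓ Cx x : Submodule F V) := by
  have h1 : (B ⊓ Wx x) ⊔ (B ⊓ Cx x) = B := by
    apply le_antisymm (sup_le inf_le_left inf_le_left)
    intro v hv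
    obtain ⟨w, hw, c, hc, rfl⟩ := exists_split hx hN hB hv
    exact Submodule.add_mem_sup hw hc
  have h2 : (B ⊓ Wx x) ⊓ (B ⊓ Cx x) = ⊥ := by
    rw [eq_bot_iff]
    intro v hv
    exact (Submodule.mem_bot F).2 (Wx_inf_Cx hx hN hv.1.2 hv.2.2)
  have h3 := Submodule.finrank_sup_add_finrank_inf_eq (B ⊓ Wx x) (B ⊓ Cx x)
  rw [h1, h2, finrank_bot, add_zero] at h3
  exact h3

/-- a primary quotient -/
theorem prim_cases {x : V ≃ₗ[F] V} {N : ℕ} (hx : x ^ N = 1) (hN : (N : F) ≠ 0) {A B : Submodule F V}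
    (hB : B.map (x : V →ₗ[F] V) = B) (hP : Prim x A B) :
    B ⊓ Wx x ≤ A ∨ B ⊓ Cx x ≤ A := by
  have hpow : ∀ (j : ℕ) (v : V), Polynomial.aeval (x : V →ₗ[F] V) (Polynomial.X ^ j : Polynomial F) v = (x ^ j) v := by
    intro j v
    rw [map_pow, Polynomial.aeval_X]
    induction j with
    | zero => rfl
    | succ j ih =>
      rw [pow_succ', pow_succ']
      show (x : V →ₗ[F] V) (((x : V →ₗ[F] V) ^ j) v) = x ((x ^ j) v)
      rw [ih]
      rfl
  have hgeom : ∀ v : V, Polynomial.aeval (x : V →ₗ[F] V) (∑ j ∈ Finset.range N, Polynomial.X ^ j : Polynomial F) v =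
      Tx x N v := by
    intro v
    rw [map_sum, LinearMap.sum_apply, Tx]
    exact Finset.sum_congr rfl fun j _ => hpow j v
  have hlin : ∀ v : V, Polynomial.aeval (x : V →ₗ[F] V) (Polynomial.X - Polynomial.C 1 : Polynomial F) v = x v - v := by
    intro v
    rw [map_sub, Polynomial.aeval_X, map_one, map_one]
    rfl
  have hcop : IsCoprime (Polynomial.X - Polynomial.C 1 : Polynomial F) (∑ j ∈ Finset.range N, Polynomial.X ^ j) := by
    rw [(Polynomial.irreducible_X_sub_C (1 : F)).coprime_iff_not_dvd, Polynomial.dvd_iff_isRoot, Polynomial.IsRoot,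
      Polynomial.eval_finset_sum]
    simpa using hN
  have h0 : ∀ v ∈ B, Polynomial.aeval (x : V →ₗ[F] V)
      ((Polynomial.X - Polynomial.C 1 : Polynomial F) * ∑ j ∈ Finset.range N, Polynomial.X ^ j) v ∈ A := by
    intro v _
    have h1 : (Polynomial.X - Polynomial.C 1 : Polynomial F) * ∑ j ∈ Finset.range N, Polynomial.X ^ j =
        Polynomial.X ^ N - 1 := by
      rw [map_one]
      exact mul_geom_sum _ _
    rw [h1, map_sub, LinearMap.sub_apply, hpow, hx, map_one]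
    show v - v ∈ A
    rw [sub_self]
    exact A.zero_mem
  rcases hP _ _ hcop h0 with h | h
  · left
    intro w hw
    have h1 := Tx_sub_mem (N := N) hB (fun v hv => by rw [← hlin]; exact h v hv) hw.1
    rw [Tx_of_mem_Wx hx hw.2, zero_sub] at h1
    have h2 := A.smul_mem (-(N : F)⁻¹) h1
    rwa [neg_smul, smul_neg, neg_neg, smul_smul, inv_mul_cancel₀ hN, one_smul] at h2
  · right
    intro c hc
    have h1 := h c hc.1
    rw [hgeom, Tx_of_mem_Cx hc.2] at h1
    have h2 := A.smul_mem ((N : F)⁻¹) h1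
    rwa [smul_smul, inv_mul_cancel₀ hN, one_smul] at h2

/-- **counting**: the order of `|F|` mod `q` divides the dimension of a fixed point free module of a `q`-element -/
theorem dvd_finrank [Finite F] [FiniteDimensional F V] {q : ℕ} [Fact q.Prime] {x : V ≃ₗ[F] V} {a : ℕ}
    (hx : x ^ q ^ a = 1) {U : Submodule F V} (hU : U.map (x : V →ₗ[F] V) = U) (hC : ∀ v ∈ U, x v = v → v = 0) :
    orderOf (Nat.card F : ZMod q) ∣ Module.finrank F U := by
  classical
  haveI : Finite V := Module.finite_of_finite F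
  -- the cyclic group acts on `U`
  let Z : Subgroup (V ≃ₗ[F] V) := Subgroup.zpowers x
  have hZ : IsPGroup q Z := by
    intro g
    refine ⟨a, ?_⟩
    obtain ⟨k, hk⟩ := Subgroup.mem_zpowers_iff.1 g.2
    apply Subtype.ext
    show (g : V ≃ₗ[F] V) ^ q ^ a = 1
    rw [← hk, ← zpow_natCast, ← zpow_mul, mul_comm, zpow_mul, zpow_natCast, hx, one_zpow]
  have hst : ∀ g ∈ Z, ∀ v ∈ U, g v ∈ U := by
    intro g hg v hv
    have h1 : g ∈ ({ carrier := {g : V ≃ₗ[F] V | U.map (g : V →ₗ[F] V) = U}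
                     mul_mem' := by
                      intro g g' hg hg'
                      show U.map ((g * g' : V ≃ₗ[F] V) : V →ₗ[F] V) = U
                      have : ((g * g' : V ≃ₗ[F] V) : V →ₗ[F] V) = (g : V →ₗ[F] V) ∘ₗ (g' : V →ₗ[F] V) := rfl
                      rw [this, Submodule.map_comp, hg', hg]
                     one_mem' := by
                      show U.map (LinearMap.id : V →ₗ[F] V) = U
                      exact Submodule.map_id U
                     inv_mem' := by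
                      intro g hg
                      show U.map ((g⁻¹ : V ≃ₗ[F] V) : V →ₗ[F] V) = U
                      have h2 : (U.map (g : V →ₗ[F] V)).map ((g⁻¹ : V ≃ₗ[F] V) : V →ₗ[F] V) = U := by
                        rw [← Submodule.map_comp]
                        have : ((g⁻¹ : V ≃ₗ[F] V) : V →ₗ[F] V) ∘ₗ (g : V →ₗ[F] V) = LinearMap.id := by
                          ext v
                          exact g.symm_apply_apply v
                        rw [this, Submodule.map_id]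
                      rwa [hg] at h2 } : Subgroup (V ≃ₗ[F] V)) := by
      exact (Subgroup.zpowers_le.2 (show x ∈ _ from hU)) hg
    exact mem_of_map h1 hv
  letI : MulAction Z U :=
    { smul := fun g v => ⟨g.1 v.1, hst _ g.2 _ v.2⟩
      one_smul := fun v => rfl
      mul_smul := fun g g' v => rfl }
  haveI : Finite U := inferInstance
  have h1 := hZ.card_modEq_card_fixedPoints U
  have h2 : MulAction.fixedPoints Z U = {0} := by
    ext v
    rw [MulAction.mem_fixedPoints, Set.mem_singleton_iff]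
    constructor
    · intro h
      exact Subtype.ext (hC v.1 v.2 (congrArg Subtype.val (h ⟨x, Subgroup.mem_zpowers x⟩)))
    · rintro rfl g
      exact Subtype.ext (map_zero g.1)
  have h3 : Nat.card ({0} : Set U) = 1 := by simp
  rw [h2, h3, Module.natCard_eq_pow_finrank (K := F) (V := U)] at h1
  rw [orderOf_dvd_iff_pow_eq_one, ← Nat.cast_pow, ← Nat.cast_one]
  exact (ZMod.natCast_eq_natCast_iff _ _ _).2 h1

theorem stable_inf_Wx [FiniteDimensional F V] {x : V ≃ₗ[F] V} {B : Submodule F V} (hB : B.map (x : V →ₗ[F] V) = B) :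
    (B ⊓ Wx x).map (x : V →ₗ[F] V) = B ⊓ Wx x := by
  apply map_eq_of_le
  intro v hv
  refine ⟨mem_of_map hB hv.1, ?_⟩
  obtain ⟨w, rfl⟩ := hv.2
  refine ⟨x w, ?_⟩
  show x (x w) - x w = x (x w - w)
  rw [map_sub]

theorem dvd_finrank_inf [Finite F] [FiniteDimensional F V] {q : ℕ} [Fact q.Prime] (hqF : (q : F) ≠ 0)
    {x : V ≃ₗ[F] V} {a : ℕ} (hx : x ^ q ^ a = 1) {B : Submodule F V} (hB : B.map (x : V →ₗ[F] V) = B) :
    orderOf (Nat.card F : ZMod q) ∣ Module.finrank F (B ⊓ Wx x : Submodule F V) := by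
  have hN : ((q ^ a : ℕ) : F) ≠ 0 := by
    rw [Nat.cast_pow]
    exact pow_ne_zero _ hqF
  exact dvd_finrank hx (stable_inf_Wx hB) fun v hv h => Wx_inf_Cx hx hN hv.2 h

/-- **primary flags**: see the header -/
theorem pf_rank [Finite F] [FiniteDimensional F V] {q : ℕ} [Fact q.Prime] (hqF : (q : F) ≠ 0)
    {Adm : Submodule F V → Prop} {X : Set (V ≃ₗ[F] V)} :
    ∀ (ds : List ℕ) (A : Submodule F V), PF Adm X ds A → Adm A → (∀ x ∈ X, A.map (x : V →ₗ[F] V) = A) →
      ∃ B : Submodule F V, A ≤ B ∧ Adm B ∧ (∀ x ∈ X, B.map (x : V →ₗ[F] V) = B) ∧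
        Module.finrank F B = Module.finrank F A + ds.sum ∧
        ∀ x ∈ X, ∀ a : ℕ, x ^ q ^ a = 1 → ∃ ds' : List ℕ, ds'.Sublist ds ∧
          (∀ k ∈ ds', orderOf (Nat.card F : ZMod q) ∣ k) ∧
          Module.finrank F (B ⊓ Wx x : Submodule F V) = Module.finrank F (A ⊓ Wx x : Submodule F V) + ds'.sum
  | [], A, _, hA, hAx => ⟨A, le_rfl, hA, hAx, by simp, fun x _ a _ => ⟨[], List.Sublist.refl _, by simp, by simp⟩⟩
  | k :: ds, A, ⟨B, hAB, hB, hBx, hr, hP, hPF⟩, hA, hAx => by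
    obtain ⟨D, hBD, hD, hDx, hDr, hDs⟩ := pf_rank hqF ds B hPF hB hBx
    refine ⟨D, hAB.le.trans hBD, hD, hDx, by rw [hDr, hr, List.sum_cons, add_assoc], ?_⟩
    intro x hx a ha
    obtain ⟨ds', h1, h2, h3⟩ := hDs x hx a ha
    have hN : ((q ^ a : ℕ) : F) ≠ 0 := by
      rw [Nat.cast_pow]
      exact pow_ne_zero _ hqF
    rcases prim_cases ha hN (hBx x hx) (hP x hx) with h | h
    · refine ⟨ds', h1.cons k, h2, ?_⟩
      have h4 : B ⊓ Wx x = A ⊓ Wx x :=
        le_antisymm (le_inf h inf_le_right) (inf_le_inf_right _ hAB.le)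
      rw [h3, h4]
    · have h4 : B ⊓ Cx x = A ⊓ Cx x :=
        le_antisymm (le_inf h inf_le_right) (inf_le_inf_right _ hAB.le)
      have h5 := finrank_split ha hN (hBx x hx)
      have h6 := finrank_split ha hN (hAx x hx)
      rw [h4] at h5
      have h7 : Module.finrank F (B ⊓ Wx x : Submodule F V) = Module.finrank F (A ⊓ Wx x : Submodule F V) + k := by
        omega
      refine ⟨k :: ds', h1.cons₂ k, ?_, by rw [h3, h7, List.sum_cons, add_assoc]⟩
      intro k' hk'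
      rcases List.mem_cons.1 hk' with rfl | hk'
      · have h8 := dvd_finrank_inf hqF ha (hBx x hx)
        rw [h7] at h8
        exact (Nat.dvd_add_right (dvd_finrank_inf hqF ha (hAx x hx))).1 h8
      · exact h2 _ hk'

/-! ### The binary digits -/

theorem dig_sum (N : ℕ) : (dig N).sum = N := Nat.twoPowSum_bitIndices N

theorem mem_dig {N k : ℕ} (h : k ∈ dig N) : ∃ i, k = 2 ^ i := by
  obtain ⟨i, _, rfl⟩ := List.mem_map.1 h
  exact ⟨i, rfl⟩

/-- an odd `d > 1` divides no digit -/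
theorem sub_dig_odd {N d : ℕ} (hd : Odd d) (hd1 : d ≠ 1) {ds' : List ℕ} (h : ds'.Sublist (dig N))
    (h' : ∀ k ∈ ds', d ∣ k) : ds' = [] := by
  rcases ds' with _ | ⟨k, ds'⟩
  · rfl
  · exfalso
    obtain ⟨i, hi⟩ := mem_dig (h.subset List.mem_cons_self)
    have h1 := h' k List.mem_cons_self
    rw [hi] at h1
    obtain ⟨j, _, hj⟩ := (Nat.dvd_prime_pow Nat.prime_two).1 h1
    rcases j with _ | j
    · exact hd1 (by simpa using hj)
    · rw [hj, pow_succ] at hd
      exact (Nat.not_odd_iff_even.2 ⟨2 ^ j, by ring⟩) hd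

theorem dvd_sum_sub {d : ℕ} {ds' : List ℕ} (h' : ∀ k ∈ ds', d ∣ k) : d ∣ ds'.sum := List.dvd_sum h'

/-- the digits of an even number are even -/
theorem dig_even {N : ℕ} (h : Even N) : ∀ k ∈ dig N, 2 ∣ k := by
  obtain ⟨m, hm⟩ := h
  rw [← two_mul] at hm
  subst hm
  intro k hk
  rw [dig, Nat.bitIndices_two_mul, List.map_map] at hk
  obtain ⟨i, _, rfl⟩ := List.mem_map.1 hk
  exact ⟨2 ^ i, by simp [pow_succ, mul_comm]⟩

/-- the digits of an odd number -/
theorem dig_odd {N : ℕ} (h : Odd N) : ∃ ds, dig N = 1 :: ds ∧ ∀ k ∈ ds, 2 ∣ k := by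
  obtain ⟨m, rfl⟩ := h
  refine ⟨_, by rw [dig, Nat.bitIndices_two_mul_add_one, List.map_cons, pow_zero], ?_⟩
  intro k hk
  rw [List.map_map] at hk
  obtain ⟨i, _, rfl⟩ := List.mem_map.1 hk
  exact ⟨2 ^ i, by simp [pow_succ, mul_comm]⟩

end Cfsg.Agent.H365.CC
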