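import Cfsg.Agent.H365.CC.Flag
import Cfsg.Agent.TitsThree.SpIdent
import Cfsg.Agent.LieClassical.SympCount

/-!
# S4884, block G: the `q`-elements of the symplectic groups (helper365)

* `ti_rank`  : `x` an isometry of `q`-power order, `B` stable totally isotropic of dimension `n`: `2 dim (B ∩ [V,x]) = dim [V,x]`;
* `emb ι`    : the block embedding `Isom (V_k) → Isom (V_n)`;
* `qelt_psp` : `QElt` for `Sp_2n(F)`, `n ≥ 2`, `q` odd, `q ∤ |F|`, `q ∣ |PSp_2n(F)|`.
-/

set_option autoImplicit false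
set_option linter.unusedSectionVars false

namespace Cfsg.Agent.H365.CC

open Cfsg Cfsg.Agent.H439.CC Cfsg.Agent.TitsThree.Siegel Cfsg.Agent.TitsThree.SpIdent
open Cfsg.Agent.ClassicalGeometry.SympBasic

variable {F : Type*} [Field F] {n : ℕ}

/-- the space -/
abbrev Vn (n : ℕ) (F : Type*) := Fin n ⊕ Fin n → F

theorem finrank_Vn (n : ℕ) (F : Type*) [Field F] : Module.finrank F (Vn n F) = 2 * n := by
  rw [Module.finrank_pi, Fintype.card_sum, Fintype.card_fin, two_mul]

theorem orth_WC {x : Vn n F ≃ₗ[F] Vn n F} (hx : x ∈ isos (form n F)) {v c : Vn n F} (hv : v ∈ Wx x) (hc : c ∈ Cx x) :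
    sympForm n F v c = 0 := by
  obtain ⟨w, rfl⟩ := hv
  show sympForm n F (x w - w) c = 0
  rw [sympForm_sub_left]
  have h1 : sympForm n F (x w) (x c) = sympForm n F w c := hx w c
  rw [mem_Cx.1 hc] at h1
  rw [h1, sub_self]

/-- dimension bound -/
theorem iso_bound {U D : Submodule F (Vn n F)} (hU : ∀ v ∈ U, ∀ w ∈ U, sympForm n F v w = 0)
    (hUD : ∀ v ∈ U, ∀ w ∈ D, sympForm n F v w = 0) (h0 : U ⊓ D = ⊥) :
    2 * Module.finrank F U + Module.finrank F D ≤ 2 * n := by
  have h1 : U ⊔ D ≤ LinearMap.BilinForm.orthogonal (sympBilin n F) U := by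
    refine sup_le ?_ ?_
    · intro w hw v hv
      exact hU v hv w hw
    · intro w hw v hv
      exact hUD v hv w hw
  have h2 := Submodule.finrank_mono h1
  have h5 : Module.finrank F (LinearMap.BilinForm.orthogonal (sympBilin n F) U : Submodule F (Vn n F)) =
      Module.finrank F (Vn n F) - Module.finrank F U := LinearMap.BilinForm.finrank_orthogonal sympBilin_nondegenerate U
  rw [finrank_Vn] at h5
  have h3 := Submodule.finrank_sup_add_finrank_inf_eq U D
  rw [h0, finrank_bot, add_zero] at h3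
  have h4 : Module.finrank F U ≤ 2 * n := by
    rw [← finrank_Vn n F]
    exact Submodule.finrank_le U
  omega

/-- **maximal totally isotropic stable subspaces** -/
theorem ti_rank {x : Vn n F ≃ₗ[F] Vn n F} (hx : x ∈ isos (form n F)) {N : ℕ} (hxN : x ^ N = 1) (hN : (N : F) ≠ 0)
    {B : Submodule F (Vn n F)} (hB : B.map (x : Vn n F →ₗ[F] Vn n F) = B)
    (hTI : ∀ v ∈ B, ∀ w ∈ B, sympForm n F v w = 0) (hr : Module.finrank F B = n) :
    2 * Module.finrank F (B ⊓ Wx x : Submodule F (Vn n F)) = Module.finrank F (Wx x) := by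
  have h1 := finrank_split hxN hN hB
  have h2 := finrank_split hxN hN (B := ⊤) (by rw [Submodule.map_top]; exact LinearEquiv.range x)
  rw [top_inf_eq, top_inf_eq, finrank_top, finrank_Vn] at h2
  have h3 := iso_bound (U := B ⊓ Wx x) (D := Cx x) (fun v hv w hw => hTI v hv.1 w hw.1)
    (fun v hv w hw => orth_WC hx hv.2 hw) (by
      rw [eq_bot_iff]
      intro v hv
      exact (Submodule.mem_bot F).2 (Wx_inf_Cx hxN hN hv.1.2 hv.2))
  have h4 := iso_bound (U := B ⊓ Cx x) (D := Wx x) (fun v hv w hw => hTI v hv.1 w hw.1)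
    (fun v hv w hw => by rw [sympForm_swap, orth_WC hx hw hv.2, neg_zero]) (by
      rw [eq_bot_iff]
      intro v hv
      exact (Submodule.mem_bot F).2 (Wx_inf_Cx hxN hN hv.2 hv.1.2))
  omega

/-! ### The block embedding -/

section Emb

variable {k : ℕ} (ι : Fin k → Fin n)

/-- restriction to the block -/
def res : Vn n F →ₗ[F] Vn k F := LinearMap.funLeft F F (Sum.map ι ι)

/-- extension by zero -/
noncomputable def ext : Vn k F →ₗ[F] Vn n F := Function.ExtendByZero.linearMap F (Sum.map ι ι)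

variable {ι}

theorem res_ext (hι : Function.Injective ι) (u : Vn k F) : res ι (ext ι u) = u := by
  funext i
  exact (hι.sumMap hι).extend_apply u 0 i

theorem res_ext_of_disj {k' : ℕ} {ι' : Fin k' → Fin n} (hd : ∀ i j, ι i ≠ ι' j) (u : Vn k' F) :
    res ι (ext ι' u) = 0 := by
  funext i
  refine Function.extend_apply' u (0 : Vn n F) (Sum.map ι ι i) ?_
  rintro ⟨a, ha⟩
  rcases i with i | i <;> rcases a with a | a
  · exact hd i a (Sum.inl.inj ha).symm
  · exact absurd ha (by simp)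
  · exact absurd ha (by simp)
  · exact hd i a (Sum.inr.inj ha).symm

theorem form_ext (hι : Function.Injective ι) (u : Vn k F) (v : Vn n F) :
    sympForm n F (ext ι u) v = sympForm k F u (res ι v) := by
  have h1 : ∀ (i : Fin k) (s : Fin n → Fin n ⊕ Fin n) (s' : Fin k → Fin k ⊕ Fin k),
      (∀ j, s (ι j) = Sum.map ι ι (s' j)) → ext ι u (s (ι i)) = u (s' i) := by
    intro i s s' hs
    rw [hs]
    exact (hι.sumMap hι).extend_apply u 0 (s' i)
  have h2 : ∀ (j : Fin n), j ∉ Set.range ι → ext ι u (Sum.inl j) = 0 := by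
    intro j hj
    refine Function.extend_apply' u (0 : Vn n F) (Sum.inl j) ?_
    rintro ⟨a, ha⟩
    rcases a with a | a
    · exact hj ⟨a, Sum.inl.inj ha⟩
    · exact absurd ha (by simp)
  have h3 : ∀ (j : Fin n), j ∉ Set.range ι → ext ι u (Sum.inr j) = 0 := by
    intro j hj
    refine Function.extend_apply' u (0 : Vn n F) (Sum.inr j) ?_
    rintro ⟨a, ha⟩
    rcases a with a | a
    · exact absurd ha (by simp)
    · exact hj ⟨a, Sum.inr.inj ha⟩
  rw [sympForm_eq_sum, sympForm_eq_sum]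
  symm
  apply Fintype.sum_of_injective ι hι
  · intro j hj
    rw [h2 j hj, h3 j hj]
    ring
  · intro i
    rw [h1 i Sum.inl Sum.inl (fun _ => rfl), h1 i Sum.inr Sum.inr (fun _ => rfl)]
    rfl

theorem form_ext_right (hι : Function.Injective ι) (u : Vn k F) (v : Vn n F) :
    sympForm n F v (ext ι u) = sympForm k F (res ι v) u := by
  rw [sympForm_swap, form_ext hι, ← sympForm_swap]

variable (ι) in
/-- the map -/
noncomputable def emf (g : Vn k F ≃ₗ[F] Vn k F) : Vn n F →ₗ[F] Vn n F :=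
  LinearMap.id + (ext ι) ∘ₗ ((g : Vn k F →ₗ[F] Vn k F) - LinearMap.id) ∘ₗ (res ι)

theorem emf_apply (g : Vn k F ≃ₗ[F] Vn k F) (v : Vn n F) : emf ι g v = v + ext ι (g (res ι v) - res ι v) := rfl

theorem res_emf (hι : Function.Injective ι) (g : Vn k F ≃ₗ[F] Vn k F) (v : Vn n F) :
    res ι (emf ι g v) = g (res ι v) := by
  rw [emf_apply, map_add, res_ext hι, add_sub_cancel]

theorem emf_mul (hι : Function.Injective ι) (g g' : Vn k F ≃ₗ[F] Vn k F) (v : Vn n F) :
    emf ι (g * g') v = emf ι g (emf ι g' v) := by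
  rw [emf_apply (ι := ι) g (emf ι g' v), res_emf hι, emf_apply, emf_apply, add_assoc, ← map_add]
  congr 2
  show g (g' (res ι v)) - res ι v = _
  abel

theorem emf_one (v : Vn n F) : emf ι (1 : Vn k F ≃ₗ[F] Vn k F) v = v := by
  rw [emf_apply]
  show v + ext ι (res ι v - res ι v) = v
  rw [sub_self, map_zero, add_zero]

/-- the block embedding -/
noncomputable def emb (hι : Function.Injective ι) : (Vn k F ≃ₗ[F] Vn k F) →* (Vn n F ≃ₗ[F] Vn n F) where
  toFun g := LinearEquiv.ofLinear (emf ι g) (emf ι g⁻¹)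
    (by
      refine LinearMap.ext fun v => ?_
      show emf ι g (emf ι g⁻¹ v) = v
      rw [← emf_mul hι, mul_inv_cancel, emf_one])
    (by
      refine LinearMap.ext fun v => ?_
      show emf ι g⁻¹ (emf ι g v) = v
      rw [← emf_mul hι, inv_mul_cancel, emf_one])
  map_one' := by
    ext1 v
    exact emf_one v
  map_mul' g g' := by
    ext1 v
    exact emf_mul hι g g' v

theorem emb_apply (hι : Function.Injective ι) (g : Vn k F ≃ₗ[F] Vn k F) (v : Vn n F) :
    emb hι g v = v + ext ι (g (res ι v) - res ι v) := rfl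

theorem emb_mem (hι : Function.Injective ι) {g : Vn k F ≃ₗ[F] Vn k F} (hg : g ∈ isos (form k F)) :
    emb hι g ∈ isos (form n F) := by
  intro v w
  have h1 : sympForm k F (g (res ι v)) (g (res ι w)) = sympForm k F (res ι v) (res ι w) := hg _ _
  show sympForm n F (emb hι g v) (emb hι g w) = sympForm n F v w
  rw [emb_apply, emb_apply, sympForm_add_left, sympForm_add_right, form_ext_right hι, form_ext hι, map_add,
    res_ext hι, add_sub_cancel, sympForm_sub_left, h1, sympForm_sub_right]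
  ring

theorem emb_injective (hι : Function.Injective ι) : Function.Injective (emb (F := F) hι) := by
  rw [injective_iff_map_eq_one]
  intro g hg
  ext1 u
  have h1 := congrArg (fun y : Vn n F ≃ₗ[F] Vn n F => res ι (y (ext ι u))) hg
  have h2 : res ι (emb hι g (ext ι u)) = g (res ι (ext ι u)) := res_emf hι g _
  have h3 : res ι ((1 : Vn n F ≃ₗ[F] Vn n F) (ext ι u)) = u := res_ext hι u
  rw [res_ext hι] at h2
  exact h2.symm.trans (h1.trans h3)

theorem Wx_emb_le (hι : Function.Injective ι) (g : Vn k F ≃ₗ[F] Vn k F) :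
    Wx (emb hι g) ≤ LinearMap.range (ext (F := F) ι) := by
  rintro _ ⟨v, rfl⟩
  refine ⟨g (res ι v) - res ι v, ?_⟩
  show _ = emb hι g v - v
  rw [emb_apply, add_sub_cancel_left]

theorem finrank_Wx_emb (hι : Function.Injective ι) (g : Vn k F ≃ₗ[F] Vn k F) :
    Module.finrank F (Wx (emb hι g)) ≤ 2 * k := by
  rw [← finrank_Vn k F]
  exact (Submodule.finrank_mono (Wx_emb_le hι g)).trans (LinearMap.finrank_range_le _)

theorem range_disj {k' : ℕ} {ι' : Fin k' → Fin n} (hι : Function.Injective ι) (hd : ∀ i j, ι i ≠ ι' j)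
    {v : Vn n F} (h1 : v ∈ LinearMap.range (ext (F := F) ι)) (h2 : v ∈ LinearMap.range (ext (F := F) ι')) : v = 0 := by
  obtain ⟨u, rfl⟩ := h1
  obtain ⟨u', hu'⟩ := h2
  have h3 := congrArg (res ι) hu'
  rw [res_ext_of_disj hd, res_ext hι] at h3
  rw [← h3, map_zero]

theorem emb_comm {k' : ℕ} {ι' : Fin k' → Fin n} (hι : Function.Injective ι) (hι' : Function.Injective ι')
    (hd : ∀ i j, ι i ≠ ι' j) (g : Vn k F ≃ₗ[F] Vn k F) (g' : Vn k' F ≃ₗ[F] Vn k' F) :
    Commute (emb hι g) (emb hι' g') := by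
  ext1 v
  show emb hι g (emb hι' g' v) = emb hι' g' (emb hι g v)
  have h1 : res ι (emb hι' g' v) = res ι v := by
    rw [emb_apply, map_add, res_ext_of_disj hd, add_zero]
  have h2 : res ι' (emb hι g v) = res ι' v := by
    rw [emb_apply, map_add, res_ext_of_disj (fun i j => (hd j i).symm), add_zero]
  rw [emb_apply hι g (emb hι' g' v), emb_apply hι' g' (emb hι g v), h1, h2, emb_apply, emb_apply]
  abel

end Emb

/-! ### Elements of order `q` -/

theorem card_isos (k : ℕ) (F : Type*) [Field F] [Fintype F] :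
    Nat.card (isos (form k F)) = Fintype.card F ^ (k ^ 2) * ∏ i ∈ Finset.range k, (Fintype.card F ^ (2 * (i + 1)) - 1) := by
  rw [← LieClassical.SympCount.card_symplecticGroup]
  exact Nat.card_congr (Equiv.ofBijective _ ⟨toSp_injective, toSp_surjective⟩)

theorem exists_elt [Finite F] {q : ℕ} [Fact q.Prime] {k : ℕ} (h : q ∣ Nat.card (isos (form k F))) :
    ∃ g : Vn k F ≃ₗ[F] Vn k F, g ∈ isos (form k F) ∧ g ^ q = 1 ∧ g ≠ 1 := by
  haveI : Finite (Vn k F ≃ₗ[F] Vn k F) := Finite.of_injective (fun g => (g : Vn k F → Vn k F)) DFunLike.coe_injective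
  obtain ⟨g, hg⟩ := exists_prime_orderOf_dvd_card' q h
  refine ⟨g.1, g.2, ?_, ?_⟩
  · have h1 := pow_orderOf_eq_one g
    rw [hg] at h1
    exact congrArg Subtype.val h1
  · intro h1
    have h2 : g = 1 := Subtype.ext h1
    rw [h2, orderOf_one] at hg
    exact (Fact.out : q.Prime).one_lt.ne hg

/-- `q ∣ |F| ^ (2 k) - 1` divides `|Sp_2k(F)|` -/
theorem dvd_card_isos [Fintype F] {q : ℕ} {k : ℕ} (hk : 1 ≤ k) (h : q ∣ Fintype.card F ^ (2 * k) - 1) :
    q ∣ Nat.card (isos (form k F)) := by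
  rw [card_isos]
  refine Dvd.dvd.mul_left ?_ _
  obtain ⟨k, rfl⟩ := Nat.exists_eq_succ_of_ne_zero (show k ≠ 0 by omega)
  exact h.trans (Finset.dvd_prod_of_mem (fun i => Fintype.card F ^ (2 * (i + 1)) - 1) (Finset.mem_range.2 k.lt_succ_self))

theorem exists_of_dvd_card [Fintype F] {q : ℕ} [Fact q.Prime] (hqF : (q : F) ≠ 0)
    (h : q ∣ Nat.card (isos (form n F))) : ∃ i, 1 ≤ i ∧ i ≤ n ∧ q ∣ Fintype.card F ^ (2 * i) - 1 := by
  have hq : q.Prime := Fact.out
  rw [card_isos, hq.dvd_mul] at h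
  rcases h with h | h
  · exfalso
    have h1 := hq.dvd_of_dvd_pow h
    apply hqF
    obtain ⟨p, hF⟩ := CharP.exists F
    haveI := hF
    have hpp : p.Prime := (CharP.char_is_prime_or_zero F p).resolve_right
      (fun h0 => CharP.char_ne_zero_of_finite F p h0)
    obtain ⟨m, _, hm⟩ := FiniteField.card F p
    rw [hm] at h1
    have h3 := (Nat.prime_dvd_prime_iff_eq hq hpp).1 (hq.dvd_of_dvd_pow h1)
    rw [h3]
    exact CharP.cast_eq_zero F p
  · obtain ⟨i, hi, h1⟩ := (Prime.dvd_finset_prod_iff hq.prime _).1 h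
    exact ⟨i + 1, by omega, Nat.succ_le_of_lt (Finset.mem_range.1 hi), h1⟩

theorem dvd_iff_order [Fintype F] {q : ℕ} [Fact q.Prime] (m : ℕ) :
    q ∣ Fintype.card F ^ m - 1 ↔ orderOf (Nat.card F : ZMod q) ∣ m := by
  rw [orderOf_dvd_iff_pow_eq_one, Nat.card_eq_fintype_card, ← Nat.cast_pow, ← Nat.cast_one (R := ZMod q),
    ZMod.natCast_eq_natCast_iff]
  exact (Nat.modEq_iff_dvd' (Nat.one_le_pow _ _ Fintype.card_pos)).symm.trans ⟨Nat.ModEq.symm, Nat.ModEq.symm⟩

/-! ### The target -/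

/-- totally isotropic subspaces -/
def TI (n : ℕ) (F : Type*) [Field F] (U : Submodule F (Vn n F)) : Prop := ∀ v ∈ U, ∀ w ∈ U, (form n F).h v w = 0

theorem ti_bot (n : ℕ) (F : Type*) [Field F] : TI n F ⊥ := by
  intro v hv w _
  rw [(Submodule.mem_bot F).1 hv]
  exact sympForm_zero_left w

theorem eq_one_of_Wx {x : Vn n F ≃ₗ[F] Vn n F} (h : Module.finrank F (Wx x) = 0) : x = 1 := by
  rw [Submodule.finrank_eq_zero] at h
  refine LinearEquiv.ext fun v => ?_
  have h1 := sub_mem_Wx x v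
  rw [h] at h1
  exact sub_eq_zero.1 ((Submodule.mem_bot F).1 h1)

/-- the flags above a subspace -/
theorem pf_key [Finite F] {q : ℕ} [Fact q.Prime] (hqF : (q : F) ≠ 0) {X : Set (Vn n F ≃ₗ[F] Vn n F)}
    (hX : ∀ x ∈ X, x ∈ isos (form n F) ∧ x ^ q = 1) (ds : List ℕ) (A : Submodule F (Vn n F))
    (hA : TI n F A) (hAX : ∀ x ∈ X, A.map (x : Vn n F →ₗ[F] Vn n F) = A) (hr : Module.finrank F A + ds.sum = n)
    (h : PF (TI n F) X ds A) :
    ∀ x ∈ X, ∃ ds' : List ℕ, ds'.Sublist ds ∧ (∀ k ∈ ds', orderOf (Nat.card F : ZMod q) ∣ k) ∧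
      2 * (Module.finrank F (A ⊓ Wx x : Submodule F (Vn n F)) + ds'.sum) = Module.finrank F (Wx x) := by
  obtain ⟨B, _, hB, hBX, hBr, hBs⟩ := pf_rank hqF ds A h hA hAX
  intro x hx
  have hxq : x ^ q ^ 1 = 1 := by rw [pow_one]; exact (hX x hx).2
  obtain ⟨ds', h1, h2, h3⟩ := hBs x hx 1 hxq
  refine ⟨ds', h1, h2, ?_⟩
  rw [← h3]
  exact ti_rank (hX x hx).1 (hX x hx).2 hqF (hBX x hx) hB (hBr.trans hr)

theorem pf_key_bot [Finite F] {q : ℕ} [Fact q.Prime] (hqF : (q : F) ≠ 0) {X : Set (Vn n F ≃ₗ[F] Vn n F)}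
    (hX : ∀ x ∈ X, x ∈ isos (form n F) ∧ x ^ q = 1) (h : PF (TI n F) X (dig n) ⊥) :
    ∀ x ∈ X, ∃ ds' : List ℕ, ds'.Sublist (dig n) ∧ (∀ k ∈ ds', orderOf (Nat.card F : ZMod q) ∣ k) ∧
      2 * ds'.sum = Module.finrank F (Wx x) := by
  intro x hx
  obtain ⟨ds', h1, h2, h3⟩ := pf_key hqF hX (dig n) ⊥ (ti_bot n F) (fun x _ => Submodule.map_bot _)
    (by rw [finrank_bot, zero_add, dig_sum]) h x hx
  rw [bot_inf_eq, finrank_bot, zero_add] at h3
  exact ⟨ds', h1, h2, h3⟩

/-- the group generated by two commuting elements of order `q` -/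
theorem exists_grp {G : Type*} [Group G] {q : ℕ} {s : Set G} (h1 : ∀ x ∈ s, x ^ q = 1)
    (hc : ∀ x ∈ s, ∀ y ∈ s, x * y = y * x) :
    ∃ Q₀ : Subgroup G, s ⊆ Q₀ ∧ (∀ x ∈ Q₀, x ^ q = 1) ∧ ∀ x ∈ Q₀, ∀ y ∈ Q₀, x * y = y * x := by
  have hc1 : Subgroup.closure s ≤ Subgroup.centralizer s := by
    rw [Subgroup.closure_le]
    intro x hx y hy
    exact hc y hy x hx
  have hc2 : Subgroup.closure s ≤ Subgroup.centralizer (Subgroup.closure s : Set G) := by
    rw [Subgroup.closure_le]
    intro x hx y hy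
    exact ((Subgroup.mem_centralizer_iff.1 (hc1 hy)) x hx).symm
  have hc3 : ∀ x ∈ Subgroup.closure s, ∀ y ∈ Subgroup.closure s, x * y = y * x := fun x hx y hy =>
    (Subgroup.mem_centralizer_iff.1 (hc2 hy)) x hx
  refine ⟨Subgroup.closure s, Subgroup.subset_closure, ?_, hc3⟩
  intro x hx
  induction hx using Subgroup.closure_induction with
  | mem x hx => exact h1 x hx
  | one => exact one_pow q
  | mul x y hx hy ihx ihy => rw [(show Commute x y from hc3 x hx y hy).mul_pow, ihx, ihy, one_mul]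
  | inv x hx ih => rw [inv_pow, ih, inv_one]

theorem qelt_of {q : ℕ} [Fact q.Prime] {s : Set (Vn n F ≃ₗ[F] Vn n F)} (hs : ∀ x ∈ s, x ∈ isos (form n F) ∧ x ^ q = 1)
    (hc : ∀ x ∈ s, ∀ y ∈ s, x * y = y * x)
    (h : ∀ X : Set (Vn n F ≃ₗ[F] Vn n F), s ⊆ X → (∀ x ∈ X, x ∈ isos (form n F) ∧ x ^ q = 1) → ¬ PF (TI n F) X (dig n) ⊥) :
    QElt (TI n F) (isos (form n F)).subtype q n := by
  obtain ⟨Q, hQ1, hQ2, hQ3⟩ := exists_grp (fun x hx => (hs x hx).2) hc
  refine ⟨Q.subgroupOf (isos (form n F)), ?_, ?_, h _ ?_ ?_⟩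
  · intro g
    refine ⟨1, Subtype.ext (Subtype.ext ?_)⟩
    rw [pow_one]
    exact hQ2 _ (Subgroup.mem_subgroupOf.1 g.2)
  · intro x hx y hy
    exact Subtype.ext (hQ3 _ (Subgroup.mem_subgroupOf.1 hx) _ (Subgroup.mem_subgroupOf.1 hy))
  · intro x hx
    exact ⟨⟨x, (hs x hx).1⟩, Subgroup.mem_subgroupOf.2 (hQ1 hx), rfl⟩
  · rintro _ ⟨x, hx, rfl⟩
    exact ⟨x.2, hQ2 _ (Subgroup.mem_subgroupOf.1 hx)⟩

/-- **block G for the symplectic groups** -/
theorem qelt_psp [Finite F] (hn : 2 ≤ n) {q : ℕ} [Fact q.Prime] (hqF : (q : F) ≠ 0)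
    (hd : q ∣ Nat.card (PSp n F)) : QElt (TI n F) (isos (form n F)).subtype q n := by
  haveI := Fintype.ofFinite F
  have hd' : q ∣ Nat.card (isos (form n F)) := hd.trans (Subgroup.card_dvd_of_surjective _ toPSp_surjective)
  set d := orderOf (Nat.card F : ZMod q) with hdd
  rcases Nat.even_or_odd d with he | ho
  · -- unitary type
    obtain ⟨k, hk⟩ := he
    obtain ⟨i, hi1, hin, hi⟩ := exists_of_dvd_card hqF hd'
    rw [dvd_iff_order, ← hdd, hk, ← two_mul] at hi
    have hki : k ∣ i := Nat.dvd_of_mul_dvd_mul_left two_pos hi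
    have hk0 : 1 ≤ k := Nat.pos_of_dvd_of_pos hki hi1
    have hkn : k ≤ n := (Nat.le_of_dvd hi1 hki).trans hin
    obtain ⟨g, hg, hgq, hg1⟩ := exists_elt (q := q) (dvd_card_isos (F := F) hk0 (by
      rw [dvd_iff_order, ← hdd, hk, ← two_mul]))
    have hι : Function.Injective (Fin.castLE hkn) := Fin.castLE_injective hkn
    have hx1 : emb hι g ≠ 1 := fun h => hg1 (emb_injective hι (h.trans (map_one _).symm))
    refine qelt_of (s := {emb hι g}) ?_ ?_ ?_
    · rintro _ rfl
      exact ⟨emb_mem hι hg, by rw [← map_pow, hgq, map_one]⟩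
    · rintro _ rfl _ rfl
      rfl
    · intro X hsX hX hPF
      obtain ⟨ds', h1, h2, h3⟩ := pf_key_bot hqF hX hPF _ (hsX rfl)
      have h4 := finrank_Wx_emb hι g
      rw [← hdd] at h2
      have h5 : d ∣ ds'.sum := List.dvd_sum h2
      have h6 : ds'.sum = 0 := by
        by_contra h0
        have := Nat.le_of_dvd (Nat.pos_of_ne_zero h0) h5
        omega
      rw [h6, mul_zero] at h3
      exact hx1 (eq_one_of_Wx h3.symm)
  · by_cases hd1 : d = 1
    · -- two blocks of dimension 2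
      obtain ⟨g, hg, hgq, hg1⟩ := exists_elt (q := q) (dvd_card_isos (F := F) le_rfl (by
        rw [dvd_iff_order, ← hdd, hd1]
        exact one_dvd _))
      let ι : Fin n → Fin 1 → Fin n := fun a _ => a
      have hι : ∀ a, Function.Injective (ι a) := fun a => Function.injective_of_subsingleton _
      let x : Fin n → (Vn n F ≃ₗ[F] Vn n F) := fun a => emb (hι a) g
      have hx1 : ∀ a, x a ≠ 1 := fun a h => hg1 (emb_injective (hι a) (h.trans (map_one _).symm))
      let a₀ : Fin n := ⟨0, by omega⟩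
      let a₁ : Fin n := ⟨1, by omega⟩
      have ha : a₀ ≠ a₁ := fun h => by
        have := congrArg Fin.val h
        simp [a₀, a₁] at this
      refine qelt_of (s := {x a₀, x a₁}) ?_ ?_ ?_
      · intro y hy
        have : y = x a₀ ∨ y = x a₁ := hy
        rcases this with rfl | rfl <;>
        exact ⟨emb_mem _ hg, by rw [← map_pow, hgq, map_one]⟩
      · have hc : x a₀ * x a₁ = x a₁ * x a₀ := emb_comm (hι a₀) (hι a₁) (fun _ _ => ha) g g
        intro y hy z hz
        have h1 : y = x a₀ ∨ y = x a₁ := hy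
        have h2 : z = x a₀ ∨ z = x a₁ := hz
        rcases h1 with rfl | rfl <;> rcases h2 with rfl | rfl
        · rfl
        · exact hc
        · exact hc.symm
        · rfl
      · intro X hsX hX hPF
        have hmem : ∀ a, a = a₀ ∨ a = a₁ → x a ∈ X := by
          rintro a (rfl | rfl)
          · exact hsX (Or.inl rfl)
          · exact hsX (Or.inr rfl)
        have hle : ∀ a, Module.finrank F (Wx (x a)) ≤ 2 := fun a => finrank_Wx_emb (hι a) g
        have hne : ∀ a, Module.finrank F (Wx (x a)) ≠ 0 := fun a h => hx1 a (eq_one_of_Wx h)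
        rcases Nat.even_or_odd n with hev | hod
        · obtain ⟨ds', h1, h2, h3⟩ := pf_key_bot hqF hX hPF _ (hmem a₀ (Or.inl rfl))
          have h4 : 2 ∣ ds'.sum := List.dvd_sum fun k hk => dig_even hev k (h1.subset hk)
          have h5 := hle a₀
          have h6 := hne a₀
          omega
        · obtain ⟨ds, hds, hds2⟩ := dig_odd hod
          have hsum := dig_sum n
          rw [hds, List.sum_cons] at hsum
          rw [hds] at hPF
          obtain ⟨B, hB0, hB, hBX, hBr, _, hPF'⟩ := hPF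
          rw [finrank_bot, zero_add] at hBr
          have hkey : ∀ a, a = a₀ ∨ a = a₁ → B ≤ Wx (x a) := by
            intro a ha'
            obtain ⟨ds', h1, h2, h3⟩ := pf_key hqF hX ds B hB hBX (by rw [hBr]; exact hsum) hPF' _ (hmem a ha')
            have h4 : 2 ∣ ds'.sum := List.dvd_sum fun k hk => hds2 k (h1.subset hk)
            have h5 := hle a
            have h6 := hne a
            have h7 : Module.finrank F (B ⊓ Wx (x a) : Submodule F (Vn n F)) ≤ Module.finrank F B :=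
              Submodule.finrank_mono inf_le_left
            have h8 : B ⊓ Wx (x a) = B := by
              apply Submodule.eq_of_le_of_finrank_eq inf_le_left
              omega
            rw [← h8]
            exact inf_le_right
          apply hB0.ne'
          rw [eq_bot_iff]
          intro v hv
          exact (Submodule.mem_bot F).2 (range_disj (hι a₀) (fun _ _ => ha)
            (Wx_emb_le (hι a₀) g (hkey a₀ (Or.inl rfl) hv)) (Wx_emb_le (hι a₁) g (hkey a₁ (Or.inr rfl) hv)))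
    · -- linear type, `d > 1` odd
      obtain ⟨g, hg, hgq, hg1⟩ := exists_elt (q := q) hd'
      refine qelt_of (s := {g}) ?_ ?_ ?_
      · rintro _ rfl
        exact ⟨hg, hgq⟩
      · rintro _ rfl _ rfl
        rfl
      · intro X hsX hX hPF
        obtain ⟨ds', h1, h2, h3⟩ := pf_key_bot hqF hX hPF _ (hsX rfl)
        rw [sub_dig_odd ho hd1 h1 h2, List.sum_nil, mul_zero] at h3
        exact hg1 (eq_one_of_Wx h3.symm)

end Cfsg.Agent.H365.CC
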